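import Cfsg.Agent.Lib.Invol.IsolatedSmall.Main
import Cfsg.Agent.Lib.Invol.AbelTwo.Hub
import Cfsg.Agent.Lib.Invol.JankoWard.Ward
import Cfsg.Agent.S2065
import Cfsg.Agent.Lib.Spor.J1.Structure

/-!
# A minimal counterexample involves `S₄` and has no abelian strongly closed 2-subgroup

Given that groups of Ree type are good: the derived group would be a Goldschmidt group, or have abelian Sylow
2-subgroups or a strongly embedded subgroup.
-/

set_option autoImplicit false
set_option linter.unusedSectionVars false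
set_option linter.style.haveILetI false

namespace Cfsg.Agent.Invol.IsolatedSfour

open Subgroup IsolatedSmall

universe u

variable {K : Type u} [Group K] [Finite K] {p : ℕ} [hp : Fact p.Prime]

/-- Janko's first group is good. -/
theorem good_of_j1 [IsSimpleGroup K] (hna : ¬ IsMulCommutative K) (hp2 : p ≠ 2) (h : Cfsg.Spor.IsoJ1 K) :
    Good p K := by
  obtain ⟨e⟩ := h
  have hcard : Nat.card K = 175560 := (Nat.card_congr e.toEquiv).trans J1Cert.card_J1
  refine good_of_small hna (sylow_abelian_small ?_) ?_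
  · rw [hcard]
    intro h'
    have h1 := Nat.le_of_dvd (by norm_num) h'
    have h2 : p < 57 := by
      by_contra h57
      have := Nat.pow_le_pow_left (Nat.le_of_not_lt h57) 3
      omega
    have := hp.out
    interval_cases p <;> first | omega | (norm_num at this)
  · intro hd
    haveI : Finite ↥Cfsg.Spor.J1 := Finite.of_equiv K e.toEquiv
    have h1 : Nat.card (Cfsg.Out K) = 1 := by
      rw [Nat.card_congr (QuotientGroup.congr (Cfsg.Inn K) (Cfsg.Inn ↥Cfsg.Spor.J1) (MulAut.congr e)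
        (by
          ext β
          constructor
          · rintro ⟨α, ⟨k, rfl⟩, rfl⟩
            exact ⟨e k, MulEquiv.ext fun y => by simp [MulAut.congr]⟩
          · rintro ⟨k, rfl⟩
            exact ⟨MulAut.conj (e.symm k), ⟨_, rfl⟩, MulEquiv.ext fun y => by simp [MulAut.congr]⟩)).toEquiv]
      exact Cfsg.Agent.S2065.result
    rw [h1] at hd
    exact hp.out.ne_one (Nat.dvd_one.1 hd)

/-- Groups of Ree type are good: the hypothesis. -/
def ReeGood : Prop :=
  ∀ (K : Type u) [Group K] [Finite K] (p : ℕ) [Fact p.Prime], p ≠ 2 → p ∣ Nat.card K → Cfsg.IsReeType K →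
    Good p K

/-- Goldschmidt groups are good. -/
theorem good_of_goldschmidt (hree : ReeGood.{u}) [IsSimpleGroup K] (hna : ¬ IsMulCommutative K) (hp2 : p ≠ 2)
    (hdvd : p ∣ Nat.card K) (h : Cfsg.IsGoldschmidtGroup K) : Good p K := by
  rcases h with h | ⟨F, i, j, n, hn, hF, ⟨e⟩⟩ | h | ⟨F, i, j, n, hn, hF, ⟨e⟩⟩ | ⟨F, i, j, q, hF, h5, -, ⟨e⟩⟩ | h
  · exact hree K p hp2 hdvd h
  · refine good_of_psl_two ?_ hp2 hdvd e
    rw [hF]
    exact le_trans (show 4 ≤ 2 ^ 2 by norm_num) (Nat.pow_le_pow_right two_pos (by omega))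
  · exact good_of_suzuki h hp2 hdvd
  · refine good_of_psu (q := 2 ^ n) (by rw [hF, ← pow_mul, mul_comm, pow_mul]; norm_num) ?_ hp2 hdvd e
    exact le_trans (show 3 ≤ 2 ^ 2 by norm_num) (Nat.pow_le_pow_right two_pos hn)
  · exact good_of_psl_two (by rw [hF]; omega) hp2 hdvd e
  · exact good_of_j1 hna hp2 h

/-- A simple group with abelian Sylow 2-subgroups is good. -/
theorem good_of_abelian_two (hree : ReeGood.{u}) [IsSimpleGroup K] (hna : ¬ IsMulCommutative K) (hp2 : p ≠ 2)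
    (hdvd : p ∣ Nat.card K) (S : Sylow 2 K) (hS : IsMulCommutative ↥(S : Subgroup K)) : Good p K := by
  rcases AbelTwo.trichotomy hna (ThreeFree.two_dvd_card hna) S hS with
    ⟨F, i, j, n, hn, hF, ⟨e⟩⟩ | ⟨F, i, j, -, h5, -, ⟨e⟩⟩ | ⟨h8, hE, h⟩
  · refine good_of_psl_two ?_ hp2 hdvd e
    rw [hF]
    exact le_trans (show 4 ≤ 2 ^ 2 by norm_num) (Nat.pow_le_pow_right two_pos hn)
  · exact good_of_psl_two (by omega) hp2 hdvd e
  · rcases AbelTwo.ree_or_j1 JankoWard.ward hna S h8 hE h with ⟨h', -⟩ | ⟨h', -⟩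
    · exact hree K p hp2 hdvd h'
    · exact good_of_j1 hna hp2 h'

variable {G : Type u} [Group G] [Finite G] {x : G}

/-- Elements of 2-power order lie in the derived group. -/
theorem two_mem_commutator (hx : orderOf x = p) (hp2 : p ≠ 2) (htop : commutator G ⊔ zpowers x = ⊤) {a : G} {k : ℕ}
    (ha : a ^ 2 ^ k = 1) : a ∈ commutator G := by
  have h1 : a ^ p ∈ commutator G := by
    have hg : a ∈ commutator G ⊔ zpowers x := htop ▸ mem_top a
    obtain ⟨c, hc, z, hz, rfl⟩ := (Subgroup.mem_sup_of_normal_left).1 hg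
    obtain ⟨i, rfl⟩ := Subgroup.mem_zpowers_iff.1 hz
    rw [← QuotientGroup.eq_one_iff, QuotientGroup.mk_pow, QuotientGroup.mk_mul,
      (QuotientGroup.eq_one_iff c).2 hc, one_mul, ← QuotientGroup.mk_pow, ← zpow_natCast, zpow_comm,
      zpow_natCast, show x ^ p = 1 by rw [← hx, pow_orderOf_eq_one], one_zpow]
    rfl
  have hco : p.Coprime (2 ^ k) :=
    Nat.Coprime.pow_right k ((Nat.coprime_primes hp.out Nat.prime_two).2 hp2)
  obtain ⟨e, he, he'⟩ := Nat.chineseRemainder hco 0 1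
  obtain ⟨e', rfl⟩ := Nat.modEq_zero_iff_dvd.1 he
  have h2 : a ^ (p * e') = a := by
    rw [pow_eq_pow_mod (p * e') ha, show (p * e') % 2 ^ k = 1 % 2 ^ k from he', ← pow_eq_pow_mod 1 ha, pow_one]
  rw [← h2, pow_mul]
  exact pow_mem h1 e'

/-- `S₄` is involved. -/
theorem involves_sfour (hree : ReeGood.{u}) (hx : orderOf x = p) (hiso : Cfsg.IsIsolated x) (hnz : ¬ Cfsg.InZStar p x)
    (hmin : ∀ (H : Subgroup G) (hxH : x ∈ H), H ≠ ⊤ → Cfsg.InZStar p (⟨x, hxH⟩ : ↥H))
    (hquot : ∀ (N : Subgroup G) [N.Normal], N ≠ ⊥ → Cfsg.InZStar p (QuotientGroup.mk x : G ⧸ N)) :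
    Cfsg.Involves (Equiv.Perm (Fin 4)) G := by
  by_contra hfree
  obtain ⟨hK, hKna, -⟩ := Cfsg.Agent.S2972.result x hx hiso hnz hmin hquot
  haveI := hK
  refine false_of_good hx hiso hnz hmin hquot fun hp2 hdvd => good_of_goldschmidt hree hKna hp2 hdvd ?_
  refine (AbelTwo.sfour_free_iff (AbelTwo.jrRec_of_hub JankoWard.ward) hKna).1 fun h => hfree ?_
  exact ((Invol.isSectionOf_of_involves h).trans
    ⟨commutator G, MonoidHom.id _, Function.surjective_id⟩).involves

/-- No abelian strongly closed 2-subgroup. -/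
theorem no_closed_abelian (hree : ReeGood.{u}) (hx : orderOf x = p) (hiso : Cfsg.IsIsolated x)
    (hnz : ¬ Cfsg.InZStar p x)
    (hmin : ∀ (H : Subgroup G) (hxH : x ∈ H), H ≠ ⊤ → Cfsg.InZStar p (⟨x, hxH⟩ : ↥H))
    (hquot : ∀ (N : Subgroup G) [N.Normal], N ≠ ⊥ → Cfsg.InZStar p (QuotientGroup.mk x : G ⧸ N))
    (S : Sylow 2 G) (A : Subgroup G) (hAS : A ≤ (S : Subgroup G)) (hAc : IsMulCommutative ↥A)
    (hsc : Cfsg.IsStronglyClosed A (S : Subgroup G)) : A = ⊥ := by
  classical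
  haveI : Fact (Nat.Prime 2) := ⟨Nat.prime_two⟩
  by_contra hne
  obtain ⟨hK, hKna, htop⟩ := Cfsg.Agent.S2972.result x hx hiso hnz hmin hquot
  haveI := hK
  have hp2 := ne_two hx hiso hnz
  have htwo : ∀ a ∈ (S : Subgroup G), a ∈ commutator G := fun a ha => by
    obtain ⟨k, hk⟩ := S.isPGroup' ⟨a, ha⟩
    exact two_mem_commutator hx hp2 htop (congrArg Subtype.val hk)
  have hle : (S : Subgroup G) ≤ commutator G := htwo
  let T : Sylow 2 ↥(commutator G) := S.subtype hle
  have hTmem : ∀ y : ↥(commutator G), y ∈ (T : Subgroup ↥(commutator G)) ↔ (y : G) ∈ (S : Subgroup G) :=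
    fun _ => Iff.rfl
  refine false_of_good hx hiso hnz hmin hquot fun hp2 hdvd => ?_
  let O : Subgroup ↥(commutator G) :=
    { carrier := {y | (y : G) ∈ A ∧ (y : G) * y = 1}
      one_mem' := ⟨one_mem A, one_mul _⟩
      mul_mem' := fun {y z} hy hz => ⟨mul_mem hy.1 hz.1, by
        have hc : (y : G) * z = z * y := congrArg Subtype.val (hAc.is_comm.comm ⟨_, hy.1⟩ ⟨_, hz.1⟩)
        show (y : G) * z * ((y : G) * z) = 1
        rw [show (y : G) * z * ((y : G) * z) = y * (z * y) * z by group, ← hc,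
          show (y : G) * (y * z) * z = y * y * (z * z) by group, hy.2, hz.2, one_mul]⟩
      inv_mem' := fun {y} hy => ⟨inv_mem hy.1, by
        show (y : G)⁻¹ * (y : G)⁻¹ = 1
        rw [← _root_.mul_inv_rev, hy.2, inv_one]⟩ }
  have hOel : Cfsg.IsElementaryAbelian 2 O :=
    ⟨⟨⟨fun a b => Subtype.ext (Subtype.ext (show ((a : ↥(commutator G)) : G) * ((b : ↥(commutator G)) : G) = ((b : ↥(commutator G)) : G) * ((a : ↥(commutator G)) : G) from
      congrArg Subtype.val (hAc.is_comm.comm (⟨_, a.2.1⟩ : ↥A) ⟨_, b.2.1⟩)))⟩⟩,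
      fun y hy => Subtype.ext (by rw [pow_two]; exact hy.2)⟩
  have hOne : O ≠ ⊥ := by
    have hA2 : 2 ∣ Nat.card ↥A := by
      obtain ⟨k, hk⟩ := IsPGroup.iff_card.1 (S.isPGroup'.to_le hAS)
      rw [hk]
      refine dvd_pow_self 2 fun e => hne (Subgroup.card_eq_one.1 ?_)
      rw [hk, e, pow_zero]
    obtain ⟨⟨a, haA⟩, ha⟩ := exists_prime_orderOf_dvd_card' (G := ↥A) 2 hA2
    rw [Subgroup.orderOf_mk] at ha
    intro e
    have h1 : (⟨a, htwo a (hAS haA)⟩ : ↥(commutator G)) ∈ O :=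
      ⟨haA, by rw [← pow_two, ← ha, pow_orderOf_eq_one]⟩
    rw [e, mem_bot] at h1
    rw [show a = 1 from congrArg Subtype.val h1, orderOf_one] at ha
    omega
  have hOsc : Cfsg.IsStronglyClosed O (T : Subgroup ↥(commutator G)) := by
    refine ⟨fun y hy => (hTmem y).2 (hAS hy.1), fun y hy g hg => ⟨hsc.2 _ hy.1 g ((hTmem _).1 hg), ?_⟩⟩
    show (g : G) * y * (g : G)⁻¹ * ((g : G) * y * (g : G)⁻¹) = 1
    rw [show (g : G) * y * (g : G)⁻¹ * ((g : G) * y * (g : G)⁻¹) = g * ((y : G) * y) * (g : G)⁻¹ by group, hy.2]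
    group
  rcases (Fus.Gold.conclusion_all _ hK hKna T O hOne hOel hOsc).1 with h | ⟨H, hH⟩
  · exact good_of_abelian_two hree hKna hp2 hdvd T (h ▸ hOel.1)
  · exact good_of_strongly_embedded hKna hH hp2 hdvd

end Cfsg.Agent.Invol.IsolatedSfour
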